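import Groth.Prelude.Def_BlowUp2
import Groth.Agent.Flat.CartierFibre
import Mathlib.AlgebraicGeometry.Morphisms.SchemeTheoreticallyDominant

/-! Effective Cartier ideals: the complement is affine and schematically dense; pullback to a reduced
scheme is effective Cartier iff no generic point maps into the support. -/

set_option autoImplicit false
universe u
open CategoryTheory CategoryTheory.Limits AlgebraicGeometry TopologicalSpace

namespace Groth.Agent.BlowUpEC

variable {X Y : Scheme.{u}}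

theorem compl_inter_eq_basicOpen {D : X.IdealSheafData} (U : X.affineOpens) {f : Γ(X, U.1)}
    (hf : D.ideal U = Ideal.span {f}) : U.1 ⊓ D.support.compl = X.basicOpen f := by
  ext x
  show x ∈ U.1 ∧ x ∉ (D.support : Set X) ↔ x ∈ X.basicOpen f
  constructor
  · rintro ⟨hx, hns⟩
    by_contra h
    apply hns
    show x ∈ D.support
    rw [Scheme.IdealSheafData.mem_support_iff_of_mem hx, hf, Scheme.zeroLocus_span,
      Scheme.zeroLocus_singleton]
    exact h
  · intro h
    have hx : x ∈ U.1 := X.basicOpen_le f h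
    refine ⟨hx, fun hs => ?_⟩
    change x ∈ D.support at hs
    rw [Scheme.IdealSheafData.mem_support_iff_of_mem hx, hf, Scheme.zeroLocus_span,
      Scheme.zeroLocus_singleton] at hs
    exact hs h

theorem isAffineHom_compl {D : X.IdealSheafData} (hD : BlowUp.IsEffCartierIdeal D) :
    IsAffineHom (Scheme.Opens.ι (X := X) D.support.compl) := by
  refine isAffineHom_of_forall_exists_isAffineOpen _ fun x => ?_
  obtain ⟨U, hxU, f, -, hU⟩ := hD x
  refine ⟨U.1, hxU, U.2, ?_⟩
  have h : (Scheme.Opens.ι (X := X) D.support.compl) ⁻¹ᵁ U.1 =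
      (Scheme.Opens.ι (X := X) D.support.compl) ⁻¹ᵁ X.basicOpen f := by
    rw [← compl_inter_eq_basicOpen U hU]
    ext y
    exact ⟨fun h => ⟨h, y.2⟩, fun h => h.1⟩
  rw [h]
  exact (U.2.basicOpen f).preimage_of_isOpenImmersion _
    (by rw [Scheme.Opens.opensRange_ι, ← compl_inter_eq_basicOpen U hU]; exact inf_le_right)

theorem dominant_compl {D : X.IdealSheafData} (hD : BlowUp.IsEffCartierIdeal D) :
    IsSchemeTheoreticallyDominant (Scheme.Opens.ι (X := X) D.support.compl) := by
  have := isAffineHom_compl hD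
  choose U hxU f hf hU using hD
  refine ⟨Scheme.IdealSheafData.ext_of_iSup_eq_top U (top_le_iff.mp fun x _ =>
    Opens.mem_iSup.mpr ⟨x, hxU x⟩) fun x => ?_⟩
  rw [Scheme.Hom.ker_apply, Scheme.IdealSheafData.ideal_bot]
  show RingHom.ker _ = ⊥
  rw [← RingHom.injective_iff_ker_eq_bot]
  have := (U x).2.isLocalization_basicOpen (f x)
  have hinj : Function.Injective (algebraMap Γ(X, (U x).1) Γ(X, X.basicOpen (f x))) :=
    IsLocalization.injective _ (M := Submonoid.powers (f x)) (Submonoid.powers_le.mpr (hf x))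
  intro a b hab
  apply hinj
  rw [Scheme.Opens.ι_app] at hab
  have hle : X.basicOpen (f x) ≤ (Scheme.Opens.ι (X := X) D.support.compl) ''ᵁ
      ((Scheme.Opens.ι (X := X) D.support.compl) ⁻¹ᵁ (U x).1) := by
    rw [Scheme.Hom.image_preimage_eq_opensRange_inf, Scheme.Opens.opensRange_ι,
      ← compl_inter_eq_basicOpen (U x) (hU x), inf_comm]
  have h2 : ∀ c, (X.presheaf.map (homOfLE hle).op).hom ((X.presheaf.map (homOfLE
      ((Scheme.Opens.ι (X := X) D.support.compl).image_preimage_le (U x).1)).op).hom c) =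
      algebraMap Γ(X, (U x).1) Γ(X, X.basicOpen (f x)) c := fun c => by
    rw [← CommRingCat.comp_apply, ← Functor.map_comp]
    rfl
  have := congrArg (X.presheaf.map (homOfLE hle).op).hom hab
  replace this := (h2 a).symm.trans (this.trans (h2 b))
  exact this

/-- The generic points of an affine open at which a function generates an effective Cartier ideal are
outside the support. -/
theorem not_mem_support_of_generic {D : X.IdealSheafData} (hD : BlowUp.IsEffCartierIdeal D) {ξ : X}
    (hξ : ∀ y : X, y ⤳ ξ → y = ξ) : ξ ∉ D.support := by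
  obtain ⟨U, hξU, f, hf, hU⟩ := hD ξ
  intro hs
  rw [Scheme.IdealSheafData.mem_support_iff_of_mem hξU, hU, Scheme.zeroLocus_span,
    Scheme.zeroLocus_singleton] at hs
  obtain ⟨p, hp⟩ : ∃ p : PrimeSpectrum Γ(X, U.1), U.2.fromSpec p = ξ := by
    have : ξ ∈ Set.range U.2.fromSpec := by rw [U.2.range_fromSpec]; exact hξU
    exact this
  have hmin : p.asIdeal ∈ minimalPrimes Γ(X, U.1) := by
    refine ⟨⟨p.isPrime, bot_le⟩, fun q hq hqp => ?_⟩
    have := hq.1
    have h1 : (⟨q, hq.1⟩ : PrimeSpectrum Γ(X, U.1)) ⤳ p :=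
      (PrimeSpectrum.le_iff_specializes ⟨q, hq.1⟩ p).mp hqp
    have : IsOpenImmersion U.2.fromSpec := U.2.isOpenImmersion_fromSpec
    have h2 : U.2.fromSpec (⟨q, hq.1⟩ : PrimeSpectrum Γ(X, U.1)) = ξ :=
      hξ _ (by rw [← hp]; exact h1.map U.2.fromSpec.continuous)
    have h3 : (⟨q, hq.1⟩ : PrimeSpectrum Γ(X, U.1)) = p :=
      U.2.fromSpec.isOpenEmbedding.injective (h2.trans hp.symm)
    rw [← h3]
  have hfp : f ∈ p.asIdeal := by
    by_contra h
    apply hs
    rw [← hp]
    show U.2.fromSpec p ∈ X.basicOpen f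
    have h' : p ∈ U.2.fromSpec ⁻¹ᵁ X.basicOpen f := by
      rw [U.2.fromSpec_preimage_basicOpen]; exact h
    exact h'
  exact Set.disjoint_left.mp (Ideal.disjoint_nonZeroDivisors_of_mem_minimalPrimes hmin) hfp hf

theorem isEffCartier_comap_of_reduced [IsReduced X] (f : X ⟶ Y) (I : Y.IdealSheafData)
    (hD : BlowUp.IsEffCartierIdeal I) (h : ∀ ξ : X, (∀ y : X, y ⤳ ξ → y = ξ) → f ξ ∉ I.support) :
    BlowUp.IsEffCartierIdeal (I.comap f) := by
  intro x
  obtain ⟨U, hxU, g, -, hU⟩ := hD (f x)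
  obtain ⟨_, ⟨V, hV, rfl⟩, hxV, hVU⟩ := X.isBasis_affineOpens.exists_subset_of_mem_open
    (show x ∈ f ⁻¹ᵁ U.1 from hxU) (f ⁻¹ᵁ U.1).isOpen
  have hid : (I.comap f).ideal ⟨V, hV⟩ = Ideal.span {f.appLE U.1 V hVU g} := by
    rw [Groth.Agent.Flat.CartierFibre.ideal_comap I f U ⟨V, hV⟩ hVU, hU, Ideal.map_span,
      Set.image_singleton]
  refine ⟨⟨V, hV⟩, hxV, _, ?_, hid⟩
  have : _root_.IsReduced Γ(X, V) := inferInstance
  have hnot : ∀ p : Ideal Γ(X, V), p ∈ minimalPrimes Γ(X, V) → (f.appLE U.1 V hVU g) ∉ p := by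
    intro p hp hgp
    let P : PrimeSpectrum Γ(X, V) := ⟨p, hp.1.1⟩
    have hξ : ∀ y : X, y ⤳ hV.fromSpec P → y = hV.fromSpec P := by
      intro y hy
      have hmem : hV.fromSpec P ∈ (V : Set X) := hV.range_fromSpec ▸ ⟨P, rfl⟩
      obtain ⟨q, rfl⟩ : y ∈ Set.range hV.fromSpec := by
        rw [hV.range_fromSpec]; exact hy.mem_open V.isOpen hmem
      have hi : IsOpenImmersion hV.fromSpec := hV.isOpenImmersion_fromSpec
      let q' : PrimeSpectrum Γ(X, V) := q
      have hqP : q'.asIdeal ≤ P.asIdeal :=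
        PrimeSpectrum.asIdeal_le_asIdeal q' P |>.mpr
          ((PrimeSpectrum.le_iff_specializes q' P).mpr
            (hV.fromSpec.isOpenEmbedding.isInducing.specializes_iff.mp hy))
      have : q' = P := PrimeSpectrum.ext (le_antisymm hqP (hp.2 ⟨q'.isPrime, bot_le⟩ hqP))
      exact congrArg (fun z : PrimeSpectrum Γ(X, V) => hV.fromSpec z) this
    apply h _ hξ
    show hV.fromSpec P ∈ (I.support.preimage f.continuous : Set X)
    rw [← Scheme.IdealSheafData.support_comap]
    show hV.fromSpec P ∈ (I.comap f).support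
    rw [Scheme.IdealSheafData.mem_support_iff_of_mem (U := ⟨V, hV⟩)
      (hV.range_fromSpec ▸ ⟨P, rfl⟩ : hV.fromSpec P ∈ (V : Set X)), hid, Scheme.zeroLocus_span,
      Scheme.zeroLocus_singleton]
    intro hb
    have : P ∈ hV.fromSpec ⁻¹ᵁ X.basicOpen (f.appLE U.1 V hVU g) := hb
    rw [hV.fromSpec_preimage_basicOpen] at this
    exact this hgp
  rw [mem_nonZeroDivisors_iff_right]
  intro y hy
  have hnil : y ∈ nilradical Γ(X, V) := by
    rw [nilradical_eq_sInf, Ideal.mem_sInf]
    intro q hq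
    have : q.IsPrime := hq
    obtain ⟨p, hp, hpq⟩ := Ideal.exists_minimalPrimes_le (I := (⊥ : Ideal Γ(X, V))) (J := q) (by exact bot_le)
    exact hpq ((hp.1.1.mem_or_mem (hy ▸ p.zero_mem)).resolve_right (hnot p hp))
  exact (mem_nilradical.mp hnil).eq_zero

end Groth.Agent.BlowUpEC
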