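import Groth.Agent.BlowUpEC.Basic
import Groth.Agent.BlowUpEC.Flat
import Groth.Agent.Flat.FibreAt
import Mathlib.AlgebraicGeometry.Morphisms.Flat

/-! Relative effective Cartier ideals: charts and flatness of quotient rings. -/

set_option autoImplicit false
universe u
open CategoryTheory CategoryTheory.Limits AlgebraicGeometry TopologicalSpace

namespace Groth.Agent.BlowUpEC

variable {X S : Scheme.{u}}

/-- Restriction between affine opens preserves generators which are nonzerodivisors. -/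
theorem chart_restrict {D : X.IdealSheafData} (U W : X.affineOpens) (hWU : W.1 ≤ U.1) {f : Γ(X, U.1)}
    (hf : f ∈ nonZeroDivisors Γ(X, U.1)) (hU : D.ideal U = Ideal.span {f}) :
    X.presheaf.map (homOfLE hWU).op f ∈ nonZeroDivisors Γ(X, W.1) ∧
      D.ideal W = Ideal.span {X.presheaf.map (homOfLE hWU).op f} := by
  refine ⟨?_, ?_⟩
  · have hfl : ((𝟙 X : X ⟶ X).appLE U.1 W.1 hWU).hom.Flat :=
      HasRingHomProperty.appLE @Flat (𝟙 X) inferInstance U W hWU
    have he : (𝟙 X : X ⟶ X).appLE U.1 W.1 hWU = X.presheaf.map (homOfLE hWU).op := by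
      simp [Scheme.Hom.appLE]; exact Category.id_comp _
    rw [he] at hfl
    algebraize [(X.presheaf.map (homOfLE hWU).op).hom]
    have h1 : IsSMulRegular Γ(X, U.1) f := fun a b h => (mul_cancel_left_mem_nonZeroDivisors hf).mp h
    have h2 : IsSMulRegular Γ(X, W.1) (algebraMap Γ(X, U.1) Γ(X, W.1) f) := IsSMulRegular.of_flat h1
    rw [mem_nonZeroDivisors_iff_right]
    intro y hy
    refine h2 (a₁ := y) (a₂ := 0) ?_
    simp only [smul_eq_mul, mul_zero]
    rw [mul_comm]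
    exact hy
  · rw [← D.map_ideal (U := W) (V := U) hWU, hU, Ideal.map_span, Set.image_singleton]; rfl

/-- An effective Cartier ideal has a nonzerodivisor generator on arbitrarily small affine opens. -/
theorem exists_chart {D : X.IdealSheafData} (hD : BlowUp.IsEffCartierIdeal D) (x : X) (O : X.Opens)
    (hx : x ∈ O) : ∃ W : X.affineOpens, x ∈ W.1 ∧ W.1 ≤ O ∧
      ∃ g : Γ(X, W.1), g ∈ nonZeroDivisors Γ(X, W.1) ∧ D.ideal W = Ideal.span {g} := by
  obtain ⟨U, hxU, f, hf, hU⟩ := hD x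
  obtain ⟨_, ⟨W, hW, rfl⟩, hxW, hWO⟩ := X.isBasis_affineOpens.exists_subset_of_mem_open
    (show x ∈ U.1 ⊓ O from ⟨hxU, hx⟩) (U.1 ⊓ O).isOpen
  exact ⟨⟨W, hW⟩, hxW, fun _ h => (hWO h).2, _,
    chart_restrict U ⟨W, hW⟩ (fun _ h => (hWO h).1) hf hU⟩

set_option backward.isDefEq.respectTransparency false in
/-- Flatness of the closed subscheme gives flatness of the quotient rings. -/
theorem flat_quotient (φ : X ⟶ S) (𝓘 : X.IdealSheafData) [Flat (𝓘.subschemeι ≫ φ)]
    {V : S.Opens} (hV : IsAffineOpen V) (U : X.affineOpens) (eU : U.1 ≤ φ ⁻¹ᵁ V) :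
    letI := (φ.appLE V U.1 eU).hom.toAlgebra
    Module.Flat Γ(S, V) (Γ(X, U.1) ⧸ 𝓘.ideal U) := by
  letI := (φ.appLE V U.1 eU).hom.toAlgebra
  let A : CommRingCat.{u} := .of (Γ(X, U.1) ⧸ 𝓘.ideal U)
  let q : Γ(S, V) ⟶ A := φ.appLE V U.1 eU ≫ CommRingCat.ofHom (Ideal.Quotient.mk (𝓘.ideal U))
  have hmor : 𝓘.subschemeCover.f U ≫ 𝓘.subschemeι ≫ φ = Spec.map q ≫ hV.fromSpec := by
    rw [← Category.assoc, Scheme.IdealSheafData.subschemeCover_map_subschemeι, Category.assoc,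
      ← Category.assoc (𝓘.glueDataObjι U), Scheme.IdealSheafData.glueDataObjι_ι, Spec.map_comp,
      Category.assoc, Category.assoc, IsAffineOpen.SpecMap_appLE_fromSpec φ hV U.2 eU]
  have hsq : IsPullback (𝟙 _) (Spec.map q) (Spec.map q ≫ hV.fromSpec) hV.fromSpec :=
    IsPullback.of_horiz_isIso_mono ⟨by simp⟩
  have hfl : Flat (Spec.map q) :=
    MorphismProperty.of_isPullback hsq
      (hmor ▸ (inferInstance : Flat (𝓘.subschemeCover.f U ≫ 𝓘.subschemeι ≫ φ)))
  rw [HasRingHomProperty.Spec_iff (P := @Flat)] at hfl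
  exact RingHom.flat_algebraMap_iff.mp hfl

/-- A morphism flat at the points of an affine open is flat there on rings. -/
theorem flat_appLE_of_stalk (φ : X ⟶ S) {V : S.Opens} (hV : IsAffineOpen V) {D : X.Opens}
    (hD : IsAffineOpen D) (e : D ≤ φ ⁻¹ᵁ V) (h : ∀ x ∈ D, (φ.stalkMap x).hom.Flat) :
    (φ.appLE V D e).hom.Flat := by
  have : Flat (D.ι ≫ φ) := Flat.of_stalkMap _ fun z =>
    (Groth.Agent.Flat.FibreAt.flat_stalkMap_comp_iff D.ι φ z).mpr (h _ z.2)
  have hsq : hD.fromSpec ≫ φ = Spec.map (φ.appLE V D e) ≫ hV.fromSpec :=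
    (IsAffineOpen.SpecMap_appLE_fromSpec φ hV hD e).symm
  have hfs : hD.fromSpec = hD.isoSpec.inv ≫ D.ι := rfl
  have : Flat (Spec.map (φ.appLE V D e) ≫ hV.fromSpec) := by
    rw [← hsq, hfs, Category.assoc]; infer_instance
  have hpb : IsPullback (𝟙 _) (Spec.map (φ.appLE V D e))
      (Spec.map (φ.appLE V D e) ≫ hV.fromSpec) hV.fromSpec :=
    IsPullback.of_horiz_isIso_mono ⟨by simp⟩
  have hfl : Flat (Spec.map (φ.appLE V D e)) := MorphismProperty.of_isPullback hpb this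
  rwa [HasRingHomProperty.Spec_iff (P := @Flat)] at hfl

set_option backward.isDefEq.respectTransparency false in
theorem flat_of_effCartier (φ : X ⟶ S) (𝓘 : X.IdealSheafData) (hD : BlowUp.IsEffCartierIdeal 𝓘)
    [Flat (𝓘.subschemeι ≫ φ)] (h : ∀ x : X, x ∉ 𝓘.support → (φ.stalkMap x).hom.Flat) : Flat φ := by
  refine Flat.of_stalkMap _ fun x => ?_
  obtain ⟨_, ⟨V, hV, rfl⟩, hxV, -⟩ := S.isBasis_affineOpens.exists_subset_of_mem_open
    (Set.mem_univ (φ x)) isOpen_univ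
  obtain ⟨W, hxW, hWV, g, hg, hW⟩ := exists_chart hD x (φ ⁻¹ᵁ V) hxV
  suffices (φ.appLE V W.1 hWV).hom.Flat by
    have hsq : Spec.map (φ.appLE V W.1 hWV) ≫ hV.fromSpec = W.2.fromSpec ≫ φ :=
      IsAffineOpen.SpecMap_appLE_fromSpec φ hV W.2 hWV
    have : Flat (Spec.map (φ.appLE V W.1 hWV)) := by
      rw [HasRingHomProperty.Spec_iff (P := @Flat)]; exact this
    have : IsOpenImmersion W.2.fromSpec := W.2.isOpenImmersion_fromSpec
    have : IsOpenImmersion hV.fromSpec := hV.isOpenImmersion_fromSpec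
    have hfl : Flat (W.2.fromSpec ≫ φ) := hsq ▸ (inferInstance : Flat (Spec.map (φ.appLE V W.1 hWV) ≫ hV.fromSpec))
    obtain ⟨p, hp⟩ : x ∈ Set.range W.2.fromSpec := by rw [W.2.range_fromSpec]; exact hxW
    rw [← hp]
    exact (Groth.Agent.Flat.FibreAt.flat_stalkMap_comp_iff W.2.fromSpec φ p).mp (Flat.stalkMap _ _)
  algebraize [(φ.appLE V W.1 hWV).hom]
  have h1 := flat_quotient φ 𝓘 hV W hWV
  rw [hW] at h1
  have h2 : Module.Flat Γ(S, V) (Localization.Away g) := by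
    have hle : X.basicOpen g ≤ φ ⁻¹ᵁ V := (X.basicOpen_le g).trans hWV
    have h3 : (φ.appLE V (X.basicOpen g) hle).hom.Flat := by
      refine flat_appLE_of_stalk φ hV (W.2.basicOpen g) hle fun z hz => h z ?_
      rw [← compl_inter_eq_basicOpen W hW] at hz
      exact hz.2
    have := W.2.isLocalization_basicOpen g
    algebraize [(φ.appLE V (X.basicOpen g) hle).hom]
    have : IsScalarTower Γ(S, V) Γ(X, W.1) Γ(X, X.basicOpen g) :=
      IsScalarTower.of_algebraMap_eq' (by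
        show (φ.appLE V (X.basicOpen g) hle).hom = _
        rw [← Scheme.Hom.appLE_map φ hWV (homOfLE (X.basicOpen_le g)).op]; rfl)
    exact Module.Flat.of_linearEquiv
      (((Localization.algEquiv (Submonoid.powers g) Γ(X, X.basicOpen g)).restrictScalars Γ(S, V)).toLinearEquiv)
  have := flat_of_away (R := Γ(S, V)) hg
  exact RingHom.flat_algebraMap_iff.mpr this

theorem effCartier_mul (I J : X.IdealSheafData) (hI : BlowUp.IsEffCartierIdeal I)
    (hJ : BlowUp.IsEffCartierIdeal J) : BlowUp.IsEffCartierIdeal (I * J) := by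
  intro x
  obtain ⟨U, hxU, f, hf, hU⟩ := hI x
  obtain ⟨W, hxW, hWU, g, hg, hW⟩ := exists_chart hJ x U.1 hxU
  obtain ⟨hf', hW'⟩ := chart_restrict U W hWU hf hU
  exact ⟨W, hxW, _, mul_mem hf' hg, by rw [Scheme.IdealSheafData.ideal_mul, Pi.mul_apply, hW', hW,
    Ideal.span_singleton_mul_span_singleton]⟩

theorem flat_mul (φ : X ⟶ S) (I J : X.IdealSheafData) (hI : BlowUp.IsEffCartierIdeal I)
    (hJ : BlowUp.IsEffCartierIdeal J) [Flat (I.subschemeι ≫ φ)] [Flat (J.subschemeι ≫ φ)] :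
    Flat ((I * J).subschemeι ≫ φ) := by
  refine Groth.Agent.Flat.CartierFibre.flat_subschemeι_comp φ (I * J) fun x => ?_
  obtain ⟨_, ⟨V, hV, rfl⟩, hxV, -⟩ := S.isBasis_affineOpens.exists_subset_of_mem_open
    (Set.mem_univ (φ x)) isOpen_univ
  obtain ⟨U, hxU, hUV, f, hf, hU⟩ := exists_chart hI x (φ ⁻¹ᵁ V) hxV
  obtain ⟨W, hxW, hWU, g, hg, hW⟩ := exists_chart hJ x U.1 hxU
  obtain ⟨hf', hW'⟩ := chart_restrict U W hWU hf hU
  have hWV : W.1 ≤ φ ⁻¹ᵁ V := hWU.trans hUV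
  refine ⟨V, hV, W, hWV, hxW, ?_⟩
  algebraize [(φ.appLE V W.1 hWV).hom]
  have h1 := flat_quotient φ I hV W hWV
  have h2 := flat_quotient φ J hV W hWV
  rw [hW'] at h1
  rw [hW] at h2
  have h3 := flat_quotient_mul (R := Γ(S, V)) hf' (h := g)
  rw [← Ideal.span_singleton_mul_span_singleton, ← hW', ← hW] at h3
  exact RingHom.flat_algebraMap_iff.mpr h3

end Groth.Agent.BlowUpEC
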